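/-
Characters minus rank of the blocks inducing a given block, by the singular elements.
-/
import Cfsg.Agent.Lib.Blocks.Subsections
import Cfsg.Agent.Lib.BrauerPairs.Transport

set_option linter.unusedSectionVars false
set_option linter.style.haveILetI false

namespace Cfsg.Agent.KnoerrRobinson

open Cfsg MonoidAlgebra Cfsg.Agent.Blocks Cfsg.Agent.BrauerPairs Cfsg.Agent.Char
open scoped ComplexConjugate

universe u v

variable {G : Type u} [Group G] [Fintype G] {p : ℕ} {M : Ideal AlgInt} [M.IsPrime]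

/-- Characters minus rank of a set whose pairing separates the regular from the singular
elements. -/
theorem card_mul_card_sub_rank (hp : p.Prime) (b : Set (IrrCharacter G))
    (hzero : ∀ x w : G, ¬ p ∣ orderOf x → p ∣ orderOf w → blockPair b x w = 0)
    [DecidablePred fun g : G => p ∣ orderOf g] :
    (Nat.card G : ℂ) * ((Nat.card b : ℂ) - (blockRank p b : ℂ)) =
      ∑ g ∈ Finset.univ.filter (fun g : G => p ∣ orderOf g), blockPair b g g := by
  classical
  have _hp := hp
  let A : Matrix G G ℂ := Matrix.of fun x w =>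
    if ¬ p ∣ orderOf x then (Nat.card G : ℂ)⁻¹ * blockPair b x w else 0
  set S := Submodule.span ℂ ((fun χ : IrrCharacter G => pRegularPart p (χ : G → ℂ)) '' b) with hS
  have hA : ∀ f : G → ℂ, Matrix.toLin' A f = fun x =>
      if ¬ p ∣ orderOf x then blockPart b f x else 0 := by
    intro f
    funext x
    rw [Matrix.toLin'_apply, Matrix.mulVec, dotProduct]
    by_cases hx : p ∣ orderOf x
    · simp [A, hx]
    · simp only [A, Matrix.of_apply, not_not, if_pos hx, blockPart_eq_pair, Finset.mul_sum]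
      exact Finset.sum_congr rfl fun v _ => by ring
  have hproj : LinearMap.IsProj S (Matrix.toLin' A) := by
    refine ⟨fun f => ?_, fun f hf => ?_⟩
    · have e : Matrix.toLin' A f = ∑ χ ∈ Finset.univ.filter (· ∈ b),
          classInner f (χ : G → ℂ) • pRegularPart p (χ : G → ℂ) := by
        rw [hA]
        funext x
        simp only [Finset.sum_apply, Pi.smul_apply, smul_eq_mul, pRegularPart, IsPRegular,
          blockPart_eq_sum]
        by_cases hx : p ∣ orderOf x <;> simp [hx]
      rw [e]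
      exact Submodule.sum_mem _ fun χ hχ => Submodule.smul_mem _ _
        (Submodule.subset_span ⟨χ, (Finset.mem_filter.1 hχ).2, rfl⟩)
    · induction hf using Submodule.span_induction with
      | mem f hf =>
        obtain ⟨χ, hχ, rfl⟩ := hf
        rw [hA]
        funext x
        by_cases hx : p ∣ orderOf x
        · simp [pRegularPart, IsPRegular, hx]
        · simp only [pRegularPart, IsPRegular, hx, not_false_eq_true, if_true]
          have h2 : blockPart b (χ : G → ℂ) = (χ : G → ℂ) :=
            classInner_blockPart_self b (IsCharacter.isClassFunction (irr_isCharacter χ))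
              fun ψ hψ => classInner_irr_of_ne χ.2 ψ.2 fun h => hψ (by
                rwa [← Subtype.ext h])
          rw [← congrFun h2 x, blockPart_eq_pair, blockPart_eq_pair]
          congr 1
          refine Finset.sum_congr rfl fun v _ => ?_
          by_cases hv : p ∣ orderOf v
          · rw [hzero x v hx hv, mul_zero, mul_zero]
          · simp [pRegularPart, IsPRegular, hv]
      | zero => simp
      | add f g _ _ h1 h2 => rw [map_add, h1, h2]
      | smul c f _ h1 => rw [map_smul, h1]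
  have h1 := hproj.trace
  rw [Matrix.trace_toLin'_eq] at h1
  have hrank : (blockRank p b : ℂ) =
      ∑ x : G, if ¬ p ∣ orderOf x then (Nat.card G : ℂ)⁻¹ * blockPair b x x else 0 := by
    rw [blockRank, ← hS, ← h1]
    simp only [Matrix.trace, Matrix.diag, A, Matrix.of_apply]
  have hG : (Nat.card G : ℂ) ≠ 0 := Nat.cast_ne_zero.2 Nat.card_pos.ne'
  rw [mul_sub, ← sum_blockPair_diag, hrank, Finset.mul_sum, ← Finset.sum_sub_distrib,
    Finset.sum_filter]
  refine Finset.sum_congr rfl fun x _ => ?_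
  by_cases hx : p ∣ orderOf x <;> simp [hx, hG]

theorem blockPair_iUnion (S : Finset (Set (IrrCharacter G))) (hS : ∀ β ∈ S, IsPBlock M β)
    {U : Set (IrrCharacter G)} (hU : ∀ ψ, ψ ∈ U ↔ ∃ β ∈ S, ψ ∈ β) (x w : G) :
    blockPair U x w = ∑ β ∈ S, blockPair β x w := by
  classical
  simp only [blockPair, Finset.sum_filter]
  rw [Finset.sum_comm]
  refine Finset.sum_congr rfl fun ψ _ => ?_
  by_cases h : ψ ∈ U
  · obtain ⟨β, hβ, hψ⟩ := (hU ψ).1 h
    rw [if_pos h, Finset.sum_eq_single_of_mem β hβ, if_pos hψ]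
    exact fun γ hγ hne => if_neg fun h' => hne (isPBlock_eq_of_mem (hS γ hγ) (hS β hβ) h' hψ)
  · rw [if_neg h]
    exact (Finset.sum_eq_zero fun β hβ => if_neg fun h' => h ((hU ψ).2 ⟨β, hβ, h'⟩)).symm

/-- Between `P C(P)` and `N(P)` the blocks inducing `B` are those occurring in the restricted
idempotent. -/
theorem mem_unitBlocks_iff_induced_between (hM : IsPModular p M) {P H : Subgroup G} [Fintype H]
    (hP : IsPGroup p P) (hPH : P ≤ H) (hC : Subgroup.centralizer (P : Set G) ≤ H)
    (hN : H ≤ Subgroup.normalizer (P : Set G)) {B : Set (IrrCharacter G)} (hB : IsPBlock M B)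
    {b : Set (IrrCharacter H)} :
    b ∈ unitBlocks M (restrictElt H (blockEltR M B)) ↔ IsInducedBlock M H b B := by
  classical
  have he := isClassElt_blockEltR (M := M) B
  obtain ⟨χ, hχ⟩ := isPBlock_nonempty hB
  constructor
  · intro hb
    obtain ⟨hbb, hbu⟩ := mem_unitBlocks.1 hb
    obtain ⟨ξ, hξ⟩ := isPBlock_nonempty hbb
    obtain ⟨B', hind⟩ := exists_isInducedBlock hM hP hPH hC hN hbb
    obtain ⟨χ', hχ'⟩ := isPBlock_nonempty hind.2.1
    have h1 := MemLocalIdeal.sub (hbu ξ hξ) (isInducedBlock_omegaR hind hξ hχ' he)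
    have h3 : χ' ∈ B := mem_of_omegaR_blockEltR hB fun hmem => not_memLocalIdeal_one (M := M) (by
      have := MemLocalIdeal.sub hmem h1
      simpa using this)
    rwa [← isPBlock_eq_of_mem hind.2.1 hB hχ' h3]
  · intro hind
    refine mem_unitBlocks.2 ⟨hind.1, fun ξ hξ => ?_⟩
    have := isInducedBlock_omegaR hind hξ hχ he
    rwa [omegaR_blockEltR hB, if_pos hχ] at this

section

variable {K : Type u} [Group K] [Fintype K] {K' : Type v} [Group K'] [Fintype K']

theorem omegaR_pullIrr (e : K ≃* K') (χ : IrrCharacter K') (x : MonoidAlgebra (locRing M) K) :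
    omegaR (pullIrr e χ) x = omegaR χ (mapA e x) := by
  rw [omegaR, omegaR, omega_pullIrr]
  congr 1
  exact gaExt fun b => by simp [coeff_mapA]

theorem pullB_pullB (e : K ≃* K') (B : Set (IrrCharacter K)) :
    pullB e (pullB e.symm B) = B := by
  ext χ
  show pullIrr e (pullIrr e.symm χ) ∈ B ↔ χ ∈ B
  rw [pullIrr_pullIrr]

theorem pullB_symm_pullB (e : K ≃* K') (B : Set (IrrCharacter K')) :
    pullB e.symm (pullB e B) = B := by
  ext χ
  show pullIrr e.symm (pullIrr e χ) ∈ B ↔ χ ∈ B
  rw [pullIrr_symm_pullIrr]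

theorem blockPair_pullB (e : K ≃* K') (B : Set (IrrCharacter K')) (y z : K) :
    blockPair (pullB e B) y z = blockPair B (e y) (e z) := by
  classical
  let E : IrrCharacter K' ≃ IrrCharacter K :=
    ⟨pullIrr e, pullIrr e.symm, pullIrr_symm_pullIrr e, pullIrr_pullIrr e⟩
  simp only [blockPair, Finset.sum_filter]
  refine (Fintype.sum_equiv E _ _ fun χ => ?_).symm
  show _ = if pullIrr e χ ∈ pullB e B then _ else _
  simp only [pullIrr_mem_pullB]
  rfl

theorem sum_unitBlocks_equiv (e : K ≃* K') (x : MonoidAlgebra (locRing M) K) (y z : K) :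
    ∑ δ ∈ unitBlocks M x, blockPair δ y z =
      ∑ δ ∈ unitBlocks M (mapA e x), blockPair δ (e y) (e z) := by
  classical
  symm
  refine Finset.sum_bij' (fun δ _ => pullB e δ) (fun δ _ => pullB e.symm δ) ?_ ?_
    (fun δ _ => pullB_symm_pullB e δ) (fun δ _ => pullB_pullB e δ)
    (fun δ _ => (blockPair_pullB e δ y z).symm)
  · intro δ hδ
    obtain ⟨h1, h2⟩ := mem_unitBlocks.1 hδ
    refine mem_unitBlocks.2 ⟨isPBlock_pullB e h1, fun χ hχ => ?_⟩
    have := h2 _ hχ
    rw [← omegaR_pullIrr] at this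
    rwa [pullIrr_pullIrr] at this
  · intro δ hδ
    obtain ⟨h1, h2⟩ := mem_unitBlocks.1 hδ
    refine mem_unitBlocks.2 ⟨isPBlock_pullB e.symm h1, fun χ hχ => ?_⟩
    rw [← omegaR_pullIrr]
    exact h2 _ hχ

end

/-- The blocks of a centraliser occurring in a class element, by the blocks they induce. -/
theorem sum_blockPair_unit (hM : IsPModular p M) {z : MonoidAlgebra (locRing M) G}
    (hz : IsClassElt z) {x : G} (hx : ∃ k, orderOf x = p ^ k) {C : Subgroup G}
    (hC : C = Subgroup.centralizer ({x} : Set G)) [Fintype C] {y : C} (hy : ¬ p ∣ orderOf y) :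
    ∑ β ∈ unitBlocks M z, blockPair β (x * (y : G)) (x * (y : G)) =
      ∑ δ ∈ unitBlocks M (restrictElt C z), blockPair δ y y := by
  classical
  have hindC : ∀ {δ : Set (IrrCharacter C)}, IsPBlock M δ → ∃ B, IsInducedBlock M C δ B :=
    fun hδ => inducedBlockDefined_centralizer hM hx hC hδ
  rw [Finset.sum_congr rfl fun β hβ =>
    blockPair_local hM (mem_unitBlocks.1 hβ).1 x hx C
      (by rw [centralizer_zpowers_eq]; exact hC) y y hy hy]
  rw [← Finset.sum_biUnion]
  · refine Finset.sum_congr (Finset.ext fun δ => ?_) fun _ _ => rfl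
    rw [Finset.mem_biUnion]
    constructor
    · rintro ⟨β, hβ, hδ⟩
      obtain ⟨hβb, hβu⟩ := mem_unitBlocks.1 hβ
      have hind := (mem_unitBlocks_iff_induced' hM hx hC hβb).1 hδ
      obtain ⟨χ, hχ⟩ := isPBlock_nonempty hβb
      refine mem_unitBlocks.2 ⟨hind.1, fun ξ hξ => ?_⟩
      have := MemLocalIdeal.add (isInducedBlock_omegaR hind hξ hχ hz) (hβu χ hχ)
      rwa [sub_add_sub_cancel] at this
    · intro hδ
      obtain ⟨hδb, hδu⟩ := mem_unitBlocks.1 hδ
      obtain ⟨β, hind⟩ := hindC hδb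
      obtain ⟨ξ, hξ⟩ := isPBlock_nonempty hδb
      refine ⟨β, mem_unitBlocks.2 ⟨hind.2.1, fun χ hχ => ?_⟩,
        (mem_unitBlocks_iff_induced' hM hx hC hind.2.1).2 hind⟩
      have := MemLocalIdeal.sub (hδu ξ hξ) (isInducedBlock_omegaR hind hξ hχ hz)
      convert this using 1
      ring
  · intro β hβ β' hβ' hne
    refine Finset.disjoint_left.2 fun δ h h' => hne ?_
    exact isInducedBlock_unique
      ((mem_unitBlocks_iff_induced' hM hx hC (mem_unitBlocks.1 hβ).1).1 h)
      ((mem_unitBlocks_iff_induced' hM hx hC (mem_unitBlocks.1 hβ').1).1 h')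

/-- The sum attached to a subgroup of a centraliser. -/
noncomputable def localTerm (M : Ideal AlgInt) [M.IsPrime] (b : Set (IrrCharacter G)) (y : G)
    (K : Subgroup G) : ℂ := by
  classical
  exact if hy : y ∈ K then
    (letI : Fintype K := Fintype.ofFinite _
     ∑ δ ∈ unitBlocks M (restrictElt K (blockEltR M b)), blockPair δ ⟨y, hy⟩ ⟨y, hy⟩)
  else 0

theorem localTerm_eq (b : Set (IrrCharacter G)) {K : Subgroup G} [Fintype K] (y : K) :
    localTerm M b (y : G) K =
      ∑ δ ∈ unitBlocks M (restrictElt K (blockEltR M b)), blockPair δ y y := by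
  unfold localTerm
  rw [dif_pos y.2]
  congr!

theorem blockPair_eq_localTerm (hM : IsPModular p M) {b : Set (IrrCharacter G)}
    (hb : IsPBlock M b) {x y : G} (hx : ∃ k, orderOf x = p ^ k) (hxy : Commute x y)
    (hy : ¬ p ∣ orderOf y) :
    blockPair b (x * y) (x * y) = localTerm M b y (Subgroup.centralizer ({x} : Set G)) := by
  classical
  set C := Subgroup.centralizer ({x} : Set G) with hC
  have hyC : y ∈ C := Subgroup.mem_centralizer_iff.2 fun q hq => by
    rw [Set.mem_singleton_iff.1 hq]; exact hxy.eq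
  haveI : Fintype C := Fintype.ofFinite _
  have hy' : ¬ p ∣ orderOf (⟨y, hyC⟩ : C) := by rwa [← Subgroup.orderOf_coe]
  rw [show y = ((⟨y, hyC⟩ : C) : G) from rfl, localTerm_eq b (⟨y, hyC⟩ : C)]
  exact blockPair_local hM hb x hx C (by rw [centralizer_zpowers_eq]) _ _ hy' hy'

theorem sum_unitBlocks_eq_localTerm (hM : IsPModular p M) {b : Set (IrrCharacter G)}
    {H : Subgroup G} [Fintype H] {x y : H} (hx : ∃ k, orderOf x = p ^ k) (hxy : Commute x y)
    (hy : ¬ p ∣ orderOf y) :
    ∑ β ∈ unitBlocks M (restrictElt H (blockEltR M b)), blockPair β (x * y) (x * y) =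
      localTerm M b (y : G) (H ⊓ Subgroup.centralizer ({(x : G)} : Set G)) := by
  classical
  set C := Subgroup.centralizer ({x} : Set H) with hC
  set K := H ⊓ Subgroup.centralizer ({(x : G)} : Set G) with hK
  have hyC : y ∈ C := Subgroup.mem_centralizer_iff.2 fun q hq => by
    rw [Set.mem_singleton_iff.1 hq]; exact hxy.eq
  haveI : Fintype C := Fintype.ofFinite _
  haveI : Fintype K := Fintype.ofFinite _
  let e : C ≃* K :=
    { toFun := fun c => ⟨((c : H) : G), Subgroup.mem_inf.2 ⟨(c : H).2,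
        Subgroup.mem_centralizer_iff.2 fun q hq => by
          rw [Set.mem_singleton_iff.1 hq]
          exact congrArg Subtype.val (Subgroup.mem_centralizer_iff.1 c.2 x rfl)⟩⟩
      invFun := fun k => ⟨⟨(k : G), (Subgroup.mem_inf.1 k.2).1⟩,
        Subgroup.mem_centralizer_iff.2 fun q hq => Subtype.ext (by
          rw [Set.mem_singleton_iff.1 hq]
          exact Subgroup.mem_centralizer_iff.1 (Subgroup.mem_inf.1 k.2).2 _ rfl)⟩
      left_inv := fun _ => rfl
      right_inv := fun _ => rfl
      map_mul' := fun _ _ => rfl }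
  have hy' : ¬ p ∣ orderOf (⟨y, hyC⟩ : C) := by rwa [← Subgroup.orderOf_coe]
  have h1 := sum_blockPair_unit hM
    (IsClassElt.restrictElt (isClassElt_blockEltR (M := M) b) H) hx hC (y := ⟨y, hyC⟩) hy'
  rw [sum_unitBlocks_equiv e] at h1
  have he : mapA e (restrictElt C (restrictElt H (blockEltR M b))) =
      restrictElt K (blockEltR M b) := gaExt fun k => by
    rw [coeff_mapA]
    rfl
  rw [he] at h1
  rw [h1, ← localTerm_eq]
  rfl

/-- The term of a subgroup between `P C(P)` and `N(P)`. -/
theorem card_mul_induced (hM : IsPModular p M) {P H : Subgroup G} [Fintype H]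
    (hP : IsPGroup p P) (hPH : P ≤ H) (hC : Subgroup.centralizer (P : Set G) ≤ H)
    (hN : H ≤ Subgroup.normalizer (P : Set G)) {b : Set (IrrCharacter G)} (hb : IsPBlock M b)
    [DecidablePred fun g : H => p ∣ orderOf g] :
    (Nat.card H : ℂ) *
      ((Nat.card {ψ : IrrCharacter H | ∃ β, ψ ∈ β ∧ IsInducedBlock M H β b} : ℂ) -
        (blockRank p {ψ : IrrCharacter H | ∃ β, ψ ∈ β ∧ IsInducedBlock M H β b} : ℂ)) =
      ∑ h ∈ Finset.univ.filter (fun g : H => p ∣ orderOf g),
        ∑ β ∈ unitBlocks M (restrictElt H (blockEltR M b)), blockPair β h h := by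
  classical
  set S := unitBlocks M (restrictElt H (blockEltR M b))
  set U := {ψ : IrrCharacter H | ∃ β, ψ ∈ β ∧ IsInducedBlock M H β b} with hU
  have hSb : ∀ β ∈ S, IsPBlock M β := fun β hβ => (mem_unitBlocks.1 hβ).1
  have hmem : ∀ ψ, ψ ∈ U ↔ ∃ β ∈ S, ψ ∈ β := fun ψ =>
    ⟨fun ⟨β, h1, h2⟩ => ⟨β, (mem_unitBlocks_iff_induced_between hM hP hPH hC hN hb).2 h2, h1⟩,
      fun ⟨β, h1, h2⟩ => ⟨β, h2, (mem_unitBlocks_iff_induced_between hM hP hPH hC hN hb).1 h1⟩⟩
  rw [card_mul_card_sub_rank hM.1 U fun x w hx hw => by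
    rw [blockPair_iUnion S hSb hmem]
    exact Finset.sum_eq_zero fun β hβ => blockPair_regular_singular hM (hSb β hβ) hx hw]
  exact Finset.sum_congr rfl fun h _ => blockPair_iUnion S hSb hmem h h

end Cfsg.Agent.KnoerrRobinson
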