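import Mathlib.GroupTheory.Sylow
import Mathlib.GroupTheory.Nilpotent
import Mathlib.Order.Preorder.Chain
import Mathlib.Algebra.BigOperators.Ring.Finset
import Mathlib.Data.Complex.Basic

/-!
# The involution on normal chains of p-subgroups

For a `p`-element `u` the normal chains of nontrivial `p`-subgroups normalised by a fixed element
commuting with `u` cancel in pairs with equal stabiliser in the centraliser of `u`, except the
chain `{⟨u⟩}`.
-/

set_option autoImplicit false

namespace Cfsg.Agent.KnoerrRobinson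

variable {G : Type*} [Group G]

/-- A nonempty chain of nontrivial `p`-subgroups, all normal in the largest one. -/
def IsNormalChain (p : ℕ) (s : Finset (Subgroup G)) : Prop :=
  s.Nonempty ∧ (∀ Q ∈ s, ∀ R ∈ s, Q ≤ R ∨ R ≤ Q) ∧ (∀ Q ∈ s, Q ≠ ⊥ ∧ IsPGroup p Q) ∧
    ∃ T ∈ s, ∀ Q ∈ s, Q ≤ T ∧ T ≤ Subgroup.normalizer ((Q : Subgroup G) : Set G)

/-- The stabiliser of a chain. -/
def stab (s : Finset (Subgroup G)) : Subgroup G :=
  ⨅ Q ∈ s, Subgroup.normalizer ((Q : Subgroup G) : Set G)

theorem mem_stab {s : Finset (Subgroup G)} {g : G} :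
    g ∈ stab s ↔ ∀ Q ∈ s, g ∈ Subgroup.normalizer ((Q : Subgroup G) : Set G) := by
  simp [stab, Subgroup.mem_iInf]

theorem stab_le_normalizer {s : Finset (Subgroup G)} {Q : Subgroup G} (hQ : Q ∈ s) :
    stab s ≤ Subgroup.normalizer (Q : Set G) := fun _ hg => mem_stab.1 hg Q hQ

theorem mem_normalizer_of_conj [Finite G] {K : Subgroup G} {c : G}
    (h : ∀ x ∈ K, c * x * c⁻¹ ∈ K) : c ∈ Subgroup.normalizer (K : Set G) := by
  have he : K.map (MulAut.conj c).toMonoidHom = K := by
    refine Subgroup.eq_of_le_of_card_ge ?_ ?_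
    · rintro _ ⟨x, hx, rfl⟩; exact h x hx
    · rw [Subgroup.card_map_of_injective (MulEquiv.injective _)]
  refine Subgroup.mem_normalizer_iff.2 fun x => ⟨h x, fun hx => ?_⟩
  have hx' : c * x * c⁻¹ ∈ K.map (MulAut.conj c).toMonoidHom := by rw [he]; exact hx
  obtain ⟨y, hy, hyx⟩ := hx'
  simp only [MulEquiv.coe_toMonoidHom, MulAut.conj_apply] at hyx
  rwa [← mul_left_cancel (mul_right_cancel hyx)]

theorem conj_mem_normalizer_iff {K : Subgroup G} {c x : G}
    (hc : c ∈ Subgroup.normalizer (K : Set G)) : c * x * c⁻¹ ∈ K ↔ x ∈ K :=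
  ((Subgroup.mem_normalizer_iff.1 hc) x).symm

theorem mem_normalizer_sup [Finite G] {A B : Subgroup G} {c : G}
    (hA : c ∈ Subgroup.normalizer (A : Set G)) (hB : c ∈ Subgroup.normalizer (B : Set G)) :
    c ∈ Subgroup.normalizer ((A ⊔ B : Subgroup G) : Set G) := by
  refine mem_normalizer_of_conj fun x hx => ?_
  have h : A ⊔ B ≤ (A ⊔ B).comap (MulAut.conj c).toMonoidHom :=
    sup_le (fun a ha => Subgroup.mem_comap.2 (le_sup_left (b := B) (by
        simpa using (conj_mem_normalizer_iff hA).2 ha)))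
      (fun b hb => Subgroup.mem_comap.2 (le_sup_right (a := A) (by
        simpa using (conj_mem_normalizer_iff hB).2 hb)))
  simpa using h hx

section

variable [Finite G] (u : G) (s : Finset (Subgroup G))

/-- The largest member not containing `u`. -/
noncomputable def low : Subgroup G :=
  open Classical in (s.filter fun Q => u ∉ Q).sup id

/-- The closure of the conjugates of `u` under a subgroup. -/
def nc (T : Subgroup G) : Subgroup G :=
  Subgroup.closure {x | ∃ t ∈ T, t * u * t⁻¹ = x}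

/-- The subgroup which is inserted or removed. -/
noncomputable def piv : Subgroup G := low u s ⊔ nc u (s.sup id)

/-- The involution. -/
noncomputable def flip : Finset (Subgroup G) :=
  open Classical in if piv u s ∈ s then s.erase (piv u s) else insert (piv u s) s

variable {u s}

omit [Finite G] in
theorem mem_nc_self (T : Subgroup G) : u ∈ nc u T :=
  Subgroup.subset_closure ⟨1, T.one_mem, by group⟩

omit [Finite G] in
theorem nc_mono {T T' : Subgroup G} (h : T ≤ T') : nc u T ≤ nc u T' :=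
  Subgroup.closure_mono fun _ ⟨t, ht, e⟩ => ⟨t, h ht, e⟩

omit [Finite G] in
theorem nc_le {T K : Subgroup G} (hT : T ≤ Subgroup.normalizer (K : Set G)) (hu : u ∈ K) :
    nc u T ≤ K := by
  refine (Subgroup.closure_le _).2 ?_
  rintro _ ⟨t, ht, rfl⟩
  exact (conj_mem_normalizer_iff (hT ht)).2 hu

theorem normalizer_nc {T : Subgroup G} {c : G} (hc : c ∈ Subgroup.normalizer (T : Set G))
    (hcu : Commute c u) : c ∈ Subgroup.normalizer (nc u T : Set G) := by
  refine mem_normalizer_of_conj fun x hx => ?_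
  have h : nc u T ≤ (nc u T).comap (MulAut.conj c).toMonoidHom := by
    refine (Subgroup.closure_le _).2 ?_
    rintro _ ⟨t, ht, rfl⟩
    refine Subgroup.mem_comap.2 (Subgroup.subset_closure ⟨c * t * c⁻¹,
      (conj_mem_normalizer_iff hc).2 ht, ?_⟩)
    simp only [MulEquiv.coe_toMonoidHom, MulAut.conj_apply]
    have e : c⁻¹ * u * c = u := by rw [mul_assoc, ← hcu.eq, inv_mul_cancel_left]
    calc c * t * c⁻¹ * u * (c * t * c⁻¹)⁻¹ = c * t * (c⁻¹ * u * c) * t⁻¹ * c⁻¹ := by group
      _ = c * (t * u * t⁻¹) * c⁻¹ := by rw [e]; group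
  simpa using h hx

theorem le_normalizer_nc (T : Subgroup G) : T ≤ Subgroup.normalizer (nc u T : Set G) := by
  intro c hc
  refine mem_normalizer_of_conj fun x hx => ?_
  have h : nc u T ≤ (nc u T).comap (MulAut.conj c).toMonoidHom := by
    refine (Subgroup.closure_le _).2 ?_
    rintro _ ⟨t, ht, rfl⟩
    refine Subgroup.mem_comap.2 (Subgroup.subset_closure ⟨c * t, T.mul_mem hc ht, ?_⟩)
    simp only [MulEquiv.coe_toMonoidHom, MulAut.conj_apply]
    group
  simpa using h hx

/-- In a `p`-group a normal closure modulo a normal subgroup is generated by one element. -/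
theorem sup_nc_eq {p : ℕ} [Fact p.Prime] {A T : Subgroup G} (hT : IsPGroup p T) (huT : u ∈ T)
    (hAT : A ≤ T) (he : A ⊔ nc u T = T) : A ⊔ Subgroup.zpowers u = T := by
  by_contra hne
  set K := A ⊔ Subgroup.zpowers u with hK
  have hKT : K ≤ T := sup_le hAT (Subgroup.zpowers_le.2 huT)
  haveI : Group.IsNilpotent T := hT.isNilpotent
  have hnc := Group.normalizerCondition_of_isNilpotent (G := T)
  have hKne : K.subgroupOf T ≠ ⊤ := fun h => hne (le_antisymm hKT (Subgroup.subgroupOf_eq_top.1 h))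
  obtain ⟨N, hN, hKN⟩ := (eq_top_or_exists_le_coatom (K.subgroupOf T)).resolve_left hKne
  haveI hNn : N.Normal := Subgroup.NormalizerCondition.normal_of_coatom N hnc hN
  have hle : A ⊔ nc u T ≤ N.map T.subtype := by
    refine sup_le (fun a ha => ⟨⟨a, hAT ha⟩, hKN (Subgroup.mem_subgroupOf.2 (le_sup_left (b := Subgroup.zpowers u) ha)), rfl⟩) ?_
    refine (Subgroup.closure_le _).2 ?_
    rintro _ ⟨t, ht, rfl⟩
    refine ⟨⟨t, ht⟩ * ⟨u, huT⟩ * ⟨t, ht⟩⁻¹, hNn.conj_mem _ (hKN ?_) _, rfl⟩
    exact Subgroup.mem_subgroupOf.2 (le_sup_right (a := A) (Subgroup.mem_zpowers u))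
  rw [he] at hle
  refine hN.1 ((Subgroup.eq_top_iff' N).2 fun x => ?_)
  obtain ⟨y, hy, e⟩ := hle x.2
  rwa [← Subtype.ext e]

/-- Data of a normal chain normalised by an element commuting with `u`. -/
structure Data (p : ℕ) (u g : G) (s : Finset (Subgroup G)) : Prop where
  chain : IsNormalChain p s
  mem : g ∈ stab s
  umem : u ∈ Subgroup.zpowers g

namespace Data

variable {p : ℕ} [Fact p.Prime] {g : G} (h : Data p u g s)

include h

omit [Fact p.Prime] [Finite G] in
theorem comm : Commute g u := by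
  obtain ⟨k, hk⟩ := Subgroup.mem_zpowers_iff.1 h.umem
  rw [← hk]; exact (Commute.refl g).zpow_right k

omit [Fact p.Prime] [Finite G] in
theorem u_mem_stab : u ∈ stab s := Subgroup.zpowers_le.2 h.mem h.umem

omit [Fact p.Prime] [Finite G] in
theorem top_mem : s.sup id ∈ s ∧
    ∀ Q ∈ s, Q ≤ s.sup id ∧ s.sup id ≤ Subgroup.normalizer (Q : Set G) := by
  obtain ⟨-, -, -, T, hT, hle⟩ := h.chain
  have e : s.sup id = T :=
    le_antisymm (Finset.sup_le fun Q hQ => (hle Q hQ).1) (Finset.le_sup (f := id) hT)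
  rw [e]; exact ⟨hT, hle⟩

omit [Fact p.Prime] [Finite G] in
theorem low_cases : (low u s = ⊥ ∧ ∀ Q ∈ s, u ∈ Q) ∨
    (low u s ∈ s ∧ u ∉ low u s ∧ ∀ Q ∈ s, u ∉ Q → Q ≤ low u s) := by
  classical
  by_cases hA : (s.filter fun Q => u ∉ Q).Nonempty
  · right
    obtain ⟨-, htot, -, -⟩ := h.chain
    obtain ⟨m, hm, hmax⟩ := Finset.exists_maximal hA
    have hmax' : ∀ Q ∈ s.filter (fun Q => u ∉ Q), Q ≤ m := by
      intro Q hQ
      rcases htot Q (Finset.mem_filter.1 hQ).1 m (Finset.mem_filter.1 hm).1 with h1 | h1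
      · exact h1
      · exact hmax hQ h1
    have e : low u s = m :=
      le_antisymm (Finset.sup_le hmax') (Finset.le_sup (f := id) hm)
    rw [e]
    exact ⟨(Finset.mem_filter.1 hm).1, (Finset.mem_filter.1 hm).2,
      fun Q hQ hu => hmax' Q (Finset.mem_filter.2 ⟨hQ, hu⟩)⟩
  · left
    rw [Finset.not_nonempty_iff_eq_empty] at hA
    exact ⟨by rw [low, hA]; rfl, fun Q hQ => by_contra fun hu =>
      Finset.notMem_empty Q (hA ▸ Finset.mem_filter.2 ⟨hQ, hu⟩)⟩

omit [Fact p.Prime] [Finite G] in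
theorem le_low {Q : Subgroup G} (hQ : Q ∈ s) (hu : u ∉ Q) : Q ≤ low u s := by
  classical
  exact Finset.le_sup (f := id) (Finset.mem_filter.2 ⟨hQ, hu⟩)

omit [Fact p.Prime] [Finite G] in
theorem low_le_top : low u s ≤ s.sup id := by
  classical
  exact Finset.sup_mono (Finset.filter_subset _ _)

theorem top_le_normalizer_low : s.sup id ≤ Subgroup.normalizer (low u s : Set G) := by
  rcases h.low_cases with ⟨e, -⟩ | ⟨hm, -, -⟩
  · intro x _
    rw [e]
    exact mem_normalizer_of_conj fun y hy => by rw [Subgroup.mem_bot.1 hy]; simp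
  · exact (h.top_mem.2 _ hm).2

omit [Fact p.Prime] [Finite G] in
theorem u_mem_piv : u ∈ piv u s := Subgroup.mem_sup_right (mem_nc_self _)

omit [Fact p.Prime] [Finite G] in
theorem low_le_piv : low u s ≤ piv u s := le_sup_left

omit [Fact p.Prime] [Finite G] in
theorem piv_le {Q : Subgroup G} (hQ : Q ∈ s) (hu : u ∈ Q) : piv u s ≤ Q := by
  refine sup_le ?_ (nc_le (h.top_mem.2 Q hQ).2 hu)
  rcases h.low_cases with ⟨e, -⟩ | ⟨hm, hmu, -⟩
  · rw [e]; exact bot_le
  · obtain ⟨-, htot, -, -⟩ := h.chain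
    exact (htot _ hm Q hQ).resolve_right fun hle => hmu (hle hu)

/-- When `u` is not in the top member the new member is `top ⊔ ⟨u⟩`. -/
theorem piv_eq_of_notMem (hu : u ∉ s.sup id) : piv u s = s.sup id ⊔ Subgroup.zpowers u := by
  have e : low u s = s.sup id :=
    le_antisymm h.low_le_top (h.le_low h.top_mem.1 hu)
  rw [piv, e]
  refine le_antisymm (sup_le le_sup_left (nc_le ?_ (Subgroup.mem_sup_right
    (Subgroup.mem_zpowers u)))) (sup_le_sup_left (Subgroup.zpowers_le.2 (mem_nc_self _)) _)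
  exact le_sup_left.trans Subgroup.le_normalizer

theorem isPGroup_piv (hup : IsPGroup p (Subgroup.zpowers u)) : IsPGroup p (piv u s) := by
  by_cases hu : u ∈ s.sup id
  · exact (h.chain.2.2.1 _ h.top_mem.1).2.to_le (h.piv_le h.top_mem.1 hu)
  · rw [h.piv_eq_of_notMem hu]
    rw [sup_comm]
    exact hup.to_sup_of_normal_right' (h.chain.2.2.1 _ h.top_mem.1).2
      (Subgroup.zpowers_le.2 (mem_stab.1 h.u_mem_stab _ h.top_mem.1))

theorem normalizer_piv {c : G} (hc : c ∈ stab s) (hcu : Commute c u) :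
    c ∈ Subgroup.normalizer (piv u s : Set G) := by
  refine mem_normalizer_sup ?_ (normalizer_nc (mem_stab.1 hc _ h.top_mem.1) hcu)
  rcases h.low_cases with ⟨e, -⟩ | ⟨hm, -, -⟩
  · rw [e]
    exact mem_normalizer_of_conj fun y hy => by rw [Subgroup.mem_bot.1 hy]; simp
  · exact mem_stab.1 hc _ hm

theorem top_le_normalizer_piv : s.sup id ≤ Subgroup.normalizer (piv u s : Set G) := fun x hx =>
  mem_normalizer_sup (h.top_le_normalizer_low hx) (le_normalizer_nc _ hx)

omit [Fact p.Prime] in
theorem piv_ne_bot (hu1 : u ≠ 1) : piv u s ≠ ⊥ := fun e =>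
  hu1 (Subgroup.mem_bot.1 (e ▸ h.u_mem_piv))

omit [Finite G] [Fact p.Prime] in
theorem total_piv {Q : Subgroup G} (hQ : Q ∈ s) : Q ≤ piv u s ∨ piv u s ≤ Q := by
  by_cases hu : u ∈ Q
  · exact Or.inr (h.piv_le hQ hu)
  · exact Or.inl ((h.le_low hQ hu).trans h.low_le_piv)

/-- The largest member of `s ∪ {piv}` normalises every member. -/
theorem insert_data [DecidableEq (Subgroup G)] (hup : IsPGroup p (Subgroup.zpowers u))
    (hu1 : u ≠ 1) : Data p u g (insert (piv u s) s) := by
  obtain ⟨-, htot, hp, -⟩ := id h.chain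
  refine ⟨⟨Finset.insert_nonempty _ _, ?_, ?_, ?_⟩, ?_, h.umem⟩
  · intro Q hQ R hR
    rcases Finset.mem_insert.1 hQ with rfl | hQ <;> rcases Finset.mem_insert.1 hR with rfl | hR
    · exact Or.inl le_rfl
    · exact (h.total_piv hR).symm
    · exact h.total_piv hQ
    · exact htot Q hQ R hR
  · intro Q hQ
    rcases Finset.mem_insert.1 hQ with rfl | hQ
    · exact ⟨h.piv_ne_bot hu1, h.isPGroup_piv hup⟩
    · exact hp Q hQ
  · by_cases hu : u ∈ s.sup id
    · refine ⟨s.sup id, Finset.mem_insert_of_mem h.top_mem.1, fun Q hQ => ?_⟩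
      rcases Finset.mem_insert.1 hQ with rfl | hQ
      · exact ⟨h.piv_le h.top_mem.1 hu, h.top_le_normalizer_piv⟩
      · exact h.top_mem.2 Q hQ
    · refine ⟨piv u s, Finset.mem_insert_self _ _, fun Q hQ => ?_⟩
      rcases Finset.mem_insert.1 hQ with rfl | hQ
      · exact ⟨le_rfl, Subgroup.le_normalizer⟩
      · refine ⟨((h.top_mem.2 Q hQ).1).trans ?_, ?_⟩
        · rw [h.piv_eq_of_notMem hu]; exact le_sup_left
        · rw [h.piv_eq_of_notMem hu]
          exact sup_le (h.top_mem.2 Q hQ).2 (Subgroup.zpowers_le.2 (mem_stab.1 h.u_mem_stab Q hQ))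
  · refine mem_stab.2 fun Q hQ => ?_
    rcases Finset.mem_insert.1 hQ with rfl | hQ
    · exact h.normalizer_piv h.mem h.comm
    · exact mem_stab.1 h.mem Q hQ

theorem erase_data [DecidableEq (Subgroup G)] (hne : s ≠ {Subgroup.zpowers u})
    (hR : piv u s ∈ s) : Data p u g (s.erase (piv u s)) := by
  obtain ⟨-, htot, hp, -⟩ := id h.chain
  have hnonempty : (s.erase (piv u s)).Nonempty := by
    rw [Finset.nonempty_iff_ne_empty]
    intro he
    have hs : s = {piv u s} := by
      conv_lhs => rw [← Finset.insert_erase hR]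
      rw [he]; simp
    have hall : ∀ Q ∈ s, u ∈ Q := fun Q hQ => by
      rw [hs, Finset.mem_singleton] at hQ
      rw [hQ]; exact h.u_mem_piv
    have hlow : low u s = ⊥ := by
      rcases h.low_cases with ⟨e, -⟩ | ⟨hm, hmu, -⟩
      · exact e
      · exact absurd (hall _ hm) hmu
    have htop : s.sup id = piv u s := by
      conv_lhs => rw [hs]
      simp
    have := sup_nc_eq (u := u) (A := ⊥) (h.chain.2.2.1 _ h.top_mem.1).2
      (by rw [htop]; exact h.u_mem_piv) bot_le (by
        rw [bot_sup_eq]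
        conv_rhs => rw [htop, piv, hlow, bot_sup_eq])
    rw [bot_sup_eq, htop] at this
    exact hne (by rw [this]; exact hs)
  refine ⟨⟨hnonempty, fun Q hQ R hR' => htot Q (Finset.mem_of_mem_erase hQ) R
    (Finset.mem_of_mem_erase hR'), fun Q hQ => hp Q (Finset.mem_of_mem_erase hQ), ?_⟩, ?_, h.umem⟩
  · obtain ⟨m, hm, hmax⟩ := Finset.exists_maximal hnonempty
    have hm' := Finset.mem_of_mem_erase hm
    refine ⟨m, hm, fun Q hQ => ⟨?_, ?_⟩⟩
    · rcases htot Q (Finset.mem_of_mem_erase hQ) m hm' with h1 | h1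
      · exact h1
      · exact hmax hQ h1
    · exact (h.top_mem.2 m hm').1.trans (h.top_mem.2 Q (Finset.mem_of_mem_erase hQ)).2
  · exact mem_stab.2 fun Q hQ => mem_stab.1 h.mem Q (Finset.mem_of_mem_erase hQ)

/-- The new member only depends on the chain without it. -/
theorem piv_insert [DecidableEq (Subgroup G)] : piv u (insert (piv u s) s) = piv u s := by
  classical
  have hlow : low u (insert (piv u s) s) = low u s := by
    rw [low, Finset.filter_insert, if_neg (not_not.2 h.u_mem_piv)]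
    rfl
  rw [piv, hlow, Finset.sup_insert, id_eq]
  by_cases hu : u ∈ s.sup id
  · rw [sup_eq_right.2 (h.piv_le h.top_mem.1 hu)]
    rfl
  · rw [h.piv_eq_of_notMem hu]
    have e : low u s = s.sup id := le_antisymm h.low_le_top (h.le_low h.top_mem.1 hu)
    rw [e, sup_eq_left.2 (le_sup_left : s.sup id ≤ s.sup id ⊔ Subgroup.zpowers u)]
    exact le_antisymm
      (sup_le le_sup_left (nc_le Subgroup.le_normalizer (Subgroup.mem_sup_right
        (Subgroup.mem_zpowers u))))
      (sup_le_sup_left (Subgroup.zpowers_le.2 (mem_nc_self _)) _)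

theorem piv_erase [DecidableEq (Subgroup G)] (hR : piv u s ∈ s)
    (he : Data p u g (s.erase (piv u s))) : piv u (s.erase (piv u s)) = piv u s := by
  classical
  set s' := s.erase (piv u s) with hs'
  have hlow : low u s' = low u s := by
    rw [low, low, hs', Finset.filter_erase, Finset.erase_eq_of_notMem]
    simp [h.u_mem_piv]
  by_cases hu : u ∈ s'.sup id
  · have htop : s'.sup id = s.sup id := by
      refine le_antisymm (Finset.sup_mono (Finset.erase_subset _ _)) ?_
      refine Finset.sup_le fun Q hQ => ?_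
      by_cases hQR : Q = piv u s
      · rw [hQR]
        exact h.piv_le (Finset.mem_of_mem_erase he.top_mem.1) hu
      · exact Finset.le_sup (f := id) (Finset.mem_erase.2 ⟨hQR, hQ⟩)
    rw [piv, piv, hlow, htop]
  · have e' : low u s' = s'.sup id := le_antisymm he.low_le_top (he.le_low he.top_mem.1 hu)
    have htop : s.sup id = piv u s := by
      refine le_antisymm (Finset.sup_le fun Q hQ => ?_) (Finset.le_sup (f := id) hR)
      by_cases hQR : Q = piv u s
      · rw [hQR]; exact le_rfl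
      · refine le_trans ?_ h.low_le_piv
        rw [← hlow, e']
        exact Finset.le_sup (f := id) (Finset.mem_erase.2 ⟨hQR, hQ⟩)
    rw [he.piv_eq_of_notMem hu, ← e', hlow]
    refine (sup_nc_eq (h.chain.2.2.1 _ hR).2 h.u_mem_piv h.low_le_piv ?_)
    conv_rhs => rw [piv, htop]

end Data

end

/-- Chains normalised by `g` cancel in pairs, except `{⟨u⟩}`. -/
theorem sum_chains {p : ℕ} [Fact p.Prime] [Finite G] {u g : G}
    (hup : IsPGroup p (Subgroup.zpowers u)) (hu1 : u ≠ 1) (hug : u ∈ Subgroup.zpowers g)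
    (C : Finset (Finset (Subgroup G))) (hC : ∀ s, s ∈ C ↔ IsNormalChain p s ∧ g ∈ stab s)
    (F : Subgroup G → ℂ) :
    ∑ s ∈ C, (-1 : ℂ) ^ (s.card - 1) * F (stab s ⊓ Subgroup.centralizer ({u} : Set G)) =
      F (Subgroup.centralizer ({u} : Set G)) := by
  classical
  have hgu : Commute g u := by
    obtain ⟨k, hk⟩ := Subgroup.mem_zpowers_iff.1 hug
    rw [← hk]; exact (Commute.refl g).zpow_right k
  have hcommU : ∀ c ∈ Subgroup.centralizer ({u} : Set G), Commute c u :=
    fun c hc => (Subgroup.mem_centralizer_iff.1 hc u rfl).symm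
  have hnu : ∀ c, Commute c u → c ∈ Subgroup.normalizer (Subgroup.zpowers u : Set G) := by
    intro c hc
    refine mem_normalizer_of_conj fun x hx => ?_
    obtain ⟨k, rfl⟩ := Subgroup.mem_zpowers_iff.1 hx
    rw [(hc.zpow_right k).eq, mul_inv_cancel_right]
    exact hx
  have h0 : {Subgroup.zpowers u} ∈ C := by
    rw [hC]
    refine ⟨⟨Finset.singleton_nonempty _, by simp, ?_, Subgroup.zpowers u, by simp, ?_⟩, ?_⟩
    · simpa using ⟨hu1, hup⟩
    · intro Q hQ
      rw [Finset.mem_singleton.1 hQ]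
      exact ⟨le_rfl, Subgroup.le_normalizer⟩
    · simpa [mem_stab] using hnu g hgu
  have hstab0 : stab {Subgroup.zpowers u} ⊓ Subgroup.centralizer ({u} : Set G) =
      Subgroup.centralizer ({u} : Set G) := by
    refine inf_eq_right.2 fun c hc => mem_stab.2 fun Q hQ => ?_
    rw [Finset.mem_singleton.1 hQ]
    exact hnu c (hcommU c hc)
  rw [← Finset.add_sum_erase _ _ h0, Finset.card_singleton, Nat.sub_self, pow_zero, one_mul, hstab0,
    add_eq_left]
  have hdata : ∀ s ∈ C.erase {Subgroup.zpowers u}, Data p u g s := fun s hs =>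
    ⟨((hC s).1 (Finset.mem_of_mem_erase hs)).1, ((hC s).1 (Finset.mem_of_mem_erase hs)).2, hug⟩
  have hflip : ∀ s ∈ C.erase {Subgroup.zpowers u},
      Data p u g (flip u s) ∧ piv u (flip u s) = piv u s ∧ flip u s ≠ {Subgroup.zpowers u} ∧
        stab (flip u s) ⊓ Subgroup.centralizer ({u} : Set G) =
          stab s ⊓ Subgroup.centralizer ({u} : Set G) := by
    intro s hs
    have h := hdata s hs
    by_cases hR : piv u s ∈ s
    · have he := h.erase_data (Finset.ne_of_mem_erase hs) hR
      rw [flip, if_pos hR]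
      refine ⟨he, h.piv_erase hR he, fun e => ?_, ?_⟩
      · have h1 : Subgroup.zpowers u ∈ s.erase (piv u s) := by rw [e]; simp
        obtain ⟨h1a, h1b⟩ := Finset.mem_erase.1 h1
        refine h1a (le_antisymm ?_ (h.piv_le h1b (Subgroup.mem_zpowers u)))
        exact Subgroup.zpowers_le.2 h.u_mem_piv
      · refine le_antisymm (fun c hc => ⟨mem_stab.2 fun Q hQ => ?_, hc.2⟩)
          (fun c hc => ⟨mem_stab.2 fun Q hQ => mem_stab.1 hc.1 Q (Finset.mem_of_mem_erase hQ), hc.2⟩)
        by_cases hQR : Q = piv u s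
        · rw [hQR, ← h.piv_erase hR he]
          exact he.normalizer_piv hc.1 (hcommU c hc.2)
        · exact mem_stab.1 hc.1 Q (Finset.mem_erase.2 ⟨hQR, hQ⟩)
    · rw [flip, if_neg hR]
      refine ⟨h.insert_data hup hu1, h.piv_insert, fun e => ?_, ?_⟩
      · obtain ⟨Q, hQ⟩ := h.chain.1
        have h1 : Q ∈ insert (piv u s) s := Finset.mem_insert_of_mem hQ
        have h2 : piv u s ∈ insert (piv u s) s := Finset.mem_insert_self _ _
        rw [e, Finset.mem_singleton] at h1 h2
        rw [h2, ← h1] at hR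
        exact hR hQ
      · refine le_antisymm (fun c hc => ⟨mem_stab.2 fun Q hQ =>
          mem_stab.1 hc.1 Q (Finset.mem_insert_of_mem hQ), hc.2⟩)
          (fun c hc => ⟨mem_stab.2 fun Q hQ => ?_, hc.2⟩)
        rcases Finset.mem_insert.1 hQ with rfl | hQ
        · exact h.normalizer_piv hc.1 (hcommU c hc.2)
        · exact mem_stab.1 hc.1 Q hQ
  refine Finset.sum_involution (fun s _ => flip u s) (fun s hs => ?_) (fun s hs _ => ?_)
    (fun s hs => ?_) (fun s hs => ?_)
  · obtain ⟨-, -, -, hst⟩ := hflip s hs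
    rw [hst, ← add_mul]
    have h := hdata s hs
    have hc1 : 1 ≤ s.card := Finset.card_pos.2 h.chain.1
    have hpow : (-1 : ℂ) ^ (s.card - 1) + (-1) ^ ((flip u s).card - 1) = 0 := by
      by_cases hR : piv u s ∈ s
      · have := (hflip s hs).1.chain.1
        rw [flip, if_pos hR] at this ⊢
        rw [← Finset.card_pos, Finset.card_erase_of_mem hR] at this
        rw [Finset.card_erase_of_mem hR]
        obtain ⟨k, hk⟩ : ∃ k, s.card = k + 2 := ⟨s.card - 2, by omega⟩
        rw [hk, show k + 2 - 1 = k + 1 by omega, show k + 1 - 1 = k by omega, pow_succ]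
        ring
      · rw [flip, if_neg hR, Finset.card_insert_of_notMem hR]
        obtain ⟨k, hk⟩ : ∃ k, s.card = k + 1 := ⟨s.card - 1, by omega⟩
        rw [hk, show k + 1 - 1 = k by omega, show k + 1 + 1 - 1 = k + 1 by omega, pow_succ]
        ring
    rw [hpow, zero_mul]
  · intro e
    by_cases hR : piv u s ∈ s
    · rw [flip, if_pos hR] at e
      exact Finset.erase_eq_self.1 e hR
    · rw [flip, if_neg hR] at e
      exact hR (Finset.insert_eq_self.1 e)
  · obtain ⟨hd, -, hne, -⟩ := hflip s hs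
    exact Finset.mem_erase.2 ⟨hne, (hC _).2 ⟨hd.chain, hd.mem⟩⟩
  · obtain ⟨-, hpiv, -, -⟩ := hflip s hs
    show flip u (flip u s) = s
    conv_lhs => unfold flip
    by_cases hR : piv u s ∈ s
    · simp only [flip, if_pos hR] at hpiv ⊢
      rw [hpiv, if_neg (Finset.notMem_erase _ _), Finset.insert_erase hR]
    · simp only [flip, if_neg hR] at hpiv ⊢
      rw [hpiv, if_pos (Finset.mem_insert_self _ _), Finset.erase_insert hR]

end Cfsg.Agent.KnoerrRobinson
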