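/-
The alternating sum over normal chains.
-/
import Cfsg.Agent.Lib.KnoerrRobinson.Chains
import Cfsg.Agent.Lib.KnoerrRobinson.Terms
import Cfsg.Agent.Lib.Blocks.Defect

set_option linter.unusedSectionVars false
set_option linter.style.haveILetI false

namespace Cfsg.Agent.KnoerrRobinson

open Cfsg Cfsg.Agent.Blocks

universe u

variable {G : Type u} [Group G] [Fintype G] {p : ℕ} {M : Ideal AlgInt} [M.IsPrime]

theorem alternating_sum [Fact p.Prime] (hM : IsPModular p M) {b : Set (IrrCharacter G)}
    (hb : IsPBlock M b) (C : Finset (Finset (Subgroup G)))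
    (hC : ∀ s, s ∈ C ↔ IsNormalChain p s) :
    (Nat.card G : ℂ) * ((Nat.card b : ℂ) - (blockRank p b : ℂ)) =
      ∑ s ∈ C, (-1 : ℂ) ^ (s.card - 1) * ((Nat.card (stab s) : ℂ) *
        ((Nat.card {ψ : IrrCharacter (stab s) |
            ∃ β, ψ ∈ β ∧ IsInducedBlock M (stab s) β b} : ℂ) -
          (blockRank p {ψ : IrrCharacter (stab s) |
            ∃ β, ψ ∈ β ∧ IsInducedBlock M (stab s) β b} : ℂ))) := by
  classical
  have hp : p.Prime := Fact.out
  choose uu huu using fun g : G => exists_isPPart (p := p) hp g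
  choose yy hmul hcomm hord hreg using huu
  have hpart : ∀ g, IsPPart p g (uu g) := fun g => ⟨yy g, hmul g, hcomm g, hord g, hreg g⟩
  set F : G → Subgroup G → ℂ := fun g K =>
    localTerm M b (yy g) (K ⊓ Subgroup.centralizer ({uu g} : Set G)) with hF
  have hterm : ∀ s ∈ C,
      (Nat.card (stab s) : ℂ) *
        ((Nat.card {ψ : IrrCharacter (stab s) |
            ∃ β, ψ ∈ β ∧ IsInducedBlock M (stab s) β b} : ℂ) -
          (blockRank p {ψ : IrrCharacter (stab s) |
            ∃ β, ψ ∈ β ∧ IsInducedBlock M (stab s) β b} : ℂ)) =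
      ∑ g ∈ (Finset.univ.filter fun g : G => p ∣ orderOf g).filter (fun g => g ∈ stab s),
        F g (stab s) := by
    intro s hs
    obtain ⟨-, -, hQ, T, hT, hTle⟩ := (hC s).1 hs
    letI : Fintype (stab s) := Fintype.ofFinite _
    have hTH : T ≤ stab s := fun x hx => mem_stab.2 fun Q hQs => (hTle Q hQs).2 hx
    have hCT : Subgroup.centralizer (T : Set G) ≤ stab s := by
      intro c hc
      refine mem_stab.2 fun Q hQs => mem_normalizer_of_conj fun x hx => ?_
      rwa [← Subgroup.mem_centralizer_iff.1 hc x ((hTle Q hQs).1 hx), mul_inv_cancel_right]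
    rw [card_mul_induced hM (hQ T hT).2 hTH hCT (stab_le_normalizer hT) hb]
    symm
    refine Finset.sum_bij (fun g hg => (⟨g, (Finset.mem_filter.1 hg).2⟩ : stab s)) ?_ ?_ ?_ ?_
    · intro g hg
      refine Finset.mem_filter.2 ⟨Finset.mem_univ _, ?_⟩
      rw [← Subgroup.orderOf_coe]
      exact (Finset.mem_filter.1 (Finset.mem_filter.1 hg).1).2
    · intro g _ g' _ h
      exact congrArg Subtype.val h
    · intro h hh
      refine ⟨h, Finset.mem_filter.2 ⟨Finset.mem_filter.2 ⟨Finset.mem_univ _, ?_⟩, h.2⟩, rfl⟩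
      rw [Subgroup.orderOf_coe]
      exact (Finset.mem_filter.1 hh).2
    · intro g hg
      have hgs : g ∈ stab s := (Finset.mem_filter.1 hg).2
      obtain ⟨x, hx⟩ := exists_isPPart (p := p) hp (⟨g, hgs⟩ : stab s)
      have hxu : (x : G) = uu g := isPPart_unique hp (Blocks.IsPPart.coe hx) (hpart g)
      obtain ⟨y, hxy, hxc, hxo, hyo⟩ := hx
      have hyy : (y : G) = yy g := by
        have h1 : (x : G) * y = g := congrArg Subtype.val hxy
        rw [hxu] at h1
        exact mul_left_cancel (h1.trans (hmul g).symm)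
      show F g (stab s) = _
      rw [← hxy, sum_unitBlocks_eq_localTerm hM hxo hxc hyo, hxu, hyy]
  rw [card_mul_card_sub_rank hp b fun x w hx hw => blockPair_regular_singular hM hb hx hw,
    Finset.sum_congr (s₁ := C) rfl fun s hs =>
      congrArg (fun z : ℂ => (-1 : ℂ) ^ (s.card - 1) * z) (hterm s hs)]
  simp only [Finset.mul_sum, Finset.sum_filter (fun g => g ∈ stab _)]
  rw [Finset.sum_comm]
  refine Finset.sum_congr rfl fun g hg => ?_
  have hg' : p ∣ orderOf g := (Finset.mem_filter.1 hg).2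
  have hu1 : uu g ≠ 1 := fun h => by
    have := hpart g
    rw [h] at this
    exact (isPPart_one_iff hp).1 this hg'
  have hup : IsPGroup p (Subgroup.zpowers (uu g)) := by
    obtain ⟨k, hk⟩ := hord g
    exact IsPGroup.of_card (n := k) (by rw [Nat.card_zpowers, hk])
  have h1 := sum_chains hup hu1 (Blocks.IsPPart.mem_zpowers hp (hpart g))
    (C.filter fun s => g ∈ stab s) (fun s => by rw [Finset.mem_filter, hC])
    (fun K => localTerm M b (yy g) K)
  have h2 := blockPair_eq_localTerm hM hb (hord g) (hcomm g) (hreg g)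
  rw [hmul g, ← h1, Finset.sum_filter] at h2
  rw [h2]
  refine Finset.sum_congr rfl fun s _ => ?_
  split_ifs <;> simp [hF]

end Cfsg.Agent.KnoerrRobinson
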